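import Groth.Agent.H11P1n.ToPn
import Groth.Agent.H11Ample.Immersion
import Groth.Agent.H11Ample.Converse
import Groth.Agent.H17.Ample.GenAffine
import Groth.Agent.H11Proj.ProjSpace
import Groth.Agent.H27Weil.Geometry
import Groth.Agent.LeadChow.SegreBase

/-!
# The multiplication map `P^1 × P^n ⟶ P^(n+1)`
-/

set_option autoImplicit false
set_option linter.style.haveILetI false

noncomputable section

universe u

open CategoryTheory CategoryTheory.Limits AlgebraicGeometry Opposite TopologicalSpace CohB1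
open Groth.Agent.H11Tilde Groth.Agent.H11Ample

namespace Groth.Agent.H11P1n

/-- The base ring. -/
abbrev R0 : Type u := ULift.{u} ℤ

/-- The standard chart. -/
abbrev D (n : ℕ) (i : Fin (n + 1)) : (ProjSpace n R0.{u}).Opens :=
  Proj.basicOpen (polyGrading n R0.{u}) (MvPolynomial.X i)

instance : IsDomain R0.{u} := ULift.ringEquiv.toMulEquiv.isDomain

/-- A ratio of coordinates. -/
abbrev rat (n : ℕ) (i l : Fin (n + 1)) : Γ(ProjSpace n R0.{u}, D n i) :=
  ratio (polyGrading n R0.{u}) (X_mem i) (X_mem l)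

theorem isAffineOpen_D (n : ℕ) (i : Fin (n + 1)) : IsAffineOpen (D.{u} n i) :=
  Proj.isAffineOpen_basicOpen (polyGrading n R0.{u}) _ (X_mem i) one_pos

/-- The coordinate ring of a chart as a polynomial ring. -/
theorem exists_chartEquiv (n : ℕ) (i : Fin (n + 1)) :
    ∃ e : Γ(ProjSpace n R0.{u}, D n i) ≃+* MvPolynomial {j : Fin (n + 1) // j ≠ i} R0.{u},
      ∀ l, e (rat.{u} n i l) =
        Groth.Agent.H11Proj.ProjSpace.dehom n R0.{u} i (MvPolynomial.X l) := by
  haveI : IsIso (Proj.awayToSection (polyGrading n R0.{u}) (MvPolynomial.X i)) :=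
    (Proj.basicOpenIsoAway (polyGrading n R0.{u}) (MvPolynomial.X i) (X_mem i) one_pos).isIso_hom
  let a : HomogeneousLocalization.Away (polyGrading n R0.{u}) (MvPolynomial.X i) ≃+*
      Γ(ProjSpace n R0.{u}, D n i) :=
    RingEquiv.ofBijective (Proj.awayToSection (polyGrading n R0.{u}) (MvPolynomial.X i)).hom
      (ConcreteCategory.bijective_of_isIso _)
  let c := RingEquiv.ofBijective (Groth.Agent.H11Proj.ProjSpace.chartMap n R0.{u} i)
    (Groth.Agent.H11Proj.ProjSpace.chartMap_bijective n R0.{u} i)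
  refine ⟨a.symm.trans c.symm, fun l => ?_⟩
  refine (RingEquiv.symm_apply_eq c).mpr ((RingEquiv.symm_apply_eq a).mpr ?_)
  show _ = Proj.awayToSection _ _ (Groth.Agent.H11Proj.ProjSpace.chartMap n R0.{u} i _)
  rw [← RingHom.comp_apply (Groth.Agent.H11Proj.ProjSpace.chartMap n R0.{u} i),
    Groth.Agent.H11Proj.ProjSpace.chartMap_comp_dehom]
  exact congrArg (Proj.awayToSection _ _)
    (Groth.Agent.H11Proj.awayProjHom_mk (polyGrading n R0.{u}) (X_mem i) (a := MvPolynomial.X l) (n := 1)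
      (by rw [one_smul]; exact X_mem l)).symm

theorem isDomain_chart (n : ℕ) (i : Fin (n + 1)) : IsDomain Γ(ProjSpace n R0.{u}, D n i) := by
  obtain ⟨e, -⟩ := exists_chartEquiv n i
  exact e.toMulEquiv.isDomain

theorem ratio_ne_zero (n : ℕ) (i l : Fin (n + 1)) :
    rat.{u} n i l ≠ 0 := by
  obtain ⟨e, he⟩ := exists_chartEquiv n i
  intro h
  have h' : (0 : MvPolynomial {j : Fin (n + 1) // j ≠ i} R0.{u}) = _ :=
    ((map_zero e).symm.trans (congrArg e h.symm)).trans (he l)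
  rw [Groth.Agent.H11Proj.ProjSpace.dehom, MvPolynomial.eval₂Hom_X'] at h'
  by_cases hl : l = i
  · rw [dif_pos hl] at h'
    exact zero_ne_one h'
  · rw [dif_neg hl] at h'
    exact MvPolynomial.X_ne_zero _ h'.symm

/-- A point in every nonempty basic open of the chart at `0` is dense. -/
theorem closure_eq_univ (n : ℕ) {z : ProjSpace n R0.{u}}
    (hz : ∀ ρ : Γ(ProjSpace n R0.{u}, D n 0), ρ ≠ 0 → z ∈ (ProjSpace n R0.{u}).basicOpen ρ) :
    closure ({z} : Set (ProjSpace n R0.{u})) = Set.univ := by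
  refine Set.eq_univ_of_forall fun y => mem_closure_iff.mpr fun o ho hy => ?_
  obtain ⟨i, hi⟩ := exists_mem_basicOpen_X y
  have hD := isAffineOpen_D n i
  haveI := isDomain_chart n i
  obtain ⟨f, hf, hyf⟩ := hD.exists_basicOpen_le (V := ⟨o, ho⟩) ⟨y, hy⟩ hi
  let ξ : ProjSpace n R0.{u} := hD.fromSpec ⟨⊥, Ideal.isPrime_bot⟩
  have hξ : ∀ h : Γ(ProjSpace n R0.{u}, D n i), h ≠ 0 → ξ ∈ (ProjSpace n R0.{u}).basicOpen h := fun h hh => by
    show (⟨⊥, Ideal.isPrime_bot⟩ : PrimeSpectrum _) ∈ hD.fromSpec ⁻¹ᵁ (ProjSpace n R0.{u}).basicOpen h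
    rw [hD.fromSpec_preimage_basicOpen]
    exact hh
  have hne : ∀ {j : Fin (n + 1)} (h : Γ(ProjSpace n R0.{u}, D n j)) {p : ProjSpace n R0.{u}},
      p ∈ (ProjSpace n R0.{u}).basicOpen h → h ≠ 0 := fun h p hp h0 => by
    rw [h0, Scheme.basicOpen_zero] at hp
    exact hp
  have h1 : ξ ∈ (ProjSpace n R0.{u}).basicOpen f := hξ f (hne f hyf)
  have h2 : ξ ∈ D n 0 := by
    have h := hξ _ (ratio_ne_zero n i 0)
    rw [show (ProjSpace n R0.{u}).basicOpen (rat.{u} n i 0) = D n i ⊓ D n 0 from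
      basicOpen_ratio_deg1 (polyGrading n R0.{u}) (X_mem i) (X_mem 0)] at h
    exact h.2
  obtain ⟨h, hh, hξh⟩ := (isAffineOpen_D n 0).exists_basicOpen_le (V := ⟨o, ho⟩) ⟨ξ, hf h1⟩ h2
  exact ⟨z, hh (hz h (hne h hξh)), rfl⟩

variable (n : ℕ)

/-- `P^1 × P^n` over the integers. -/
abbrev Src : Scheme.{u} := pullback (ProjSpace.toSpec 1 R0.{u}) (ProjSpace.toSpec n R0.{u})

abbrev pr₁ : Src.{u} n ⟶ ProjSpace 1 R0.{u} := pullback.fst _ _
abbrev pr₂ : Src.{u} n ⟶ ProjSpace n R0.{u} := pullback.snd _ _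

abbrev O₁ : (Src.{u} n).Modules := (Scheme.Modules.pullback (pr₁ n)).obj (Twist.twistProjSpace 1 R0.{u} 1)
abbrev O₂ : (Src.{u} n).Modules := (Scheme.Modules.pullback (pr₂ n)).obj (Twist.twistProjSpace n R0.{u} 1)

/-- `O(1, 1)`. -/
abbrev Bi : (Src.{u} n).Modules := CohB1.tensorMod (O₁ n) (O₂ n)

abbrev xSec (i : Fin 2) : Γ(O₁.{u} n, ⊤) := pullTop (pr₁ n) (ProjUP.coord 1 R0.{u} i)
abbrev aSec (j : Fin (n + 1)) : Γ(O₂.{u} n, ⊤) := pullTop (pr₂ n) (ProjUP.coord n R0.{u} j)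

/-- The coefficients of the product of a linear form and a form of degree `n`. -/
def mulSec (k : Fin (n + 1 + 1)) : Γ(Bi.{u} n, ⊤) :=
  tm (xSec n 0) (Fin.snoc (α := fun _ => Γ(O₂.{u} n, ⊤)) (aSec n) 0 k) +
    tm (xSec n 1) (Fin.cons (α := fun _ => Γ(O₂.{u} n, ⊤)) 0 (aSec n) k)

theorem isInvertible_O₁ : PicF.IsInvertible (O₁.{u} n) := H11Ample.isInvertible_pullback _ isInvertible_twist

theorem isInvertible_O₂ : PicF.IsInvertible (O₂.{u} n) := H11Ample.isInvertible_pullback _ isInvertible_twist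

theorem isInvertible_Bi : PicF.IsInvertible (Bi.{u} n) :=
  isInvertible_tensor (isInvertible_O₁ n) (isInvertible_O₂ n)

theorem gen_pullTop {X Y : Scheme.{u}} (f : X ⟶ Y) {M : Y.Modules} (hM : PicF.IsInvertible M) (s : Γ(M, ⊤)) :
    gen ((Scheme.Modules.pullback f).obj M) (pullTop f s) = f ⁻¹ᵁ gen M s := by
  have h := gen_smul_pullSect f hM s (c := 1) isUnit_one
  rwa [one_smul] at h

theorem gen_xSec (i : Fin 2) : gen (O₁.{u} n) (xSec n i) = pr₁ n ⁻¹ᵁ D 1 i :=
  (gen_pullTop _ isInvertible_twist _).trans (congrArg (pr₁ n ⁻¹ᵁ ·) (gen_coord i))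

theorem gen_aSec (j : Fin (n + 1)) : gen (O₂.{u} n) (aSec n j) = pr₂ n ⁻¹ᵁ D n j :=
  (gen_pullTop _ isInvertible_twist _).trans (congrArg (pr₂ n ⁻¹ᵁ ·) (gen_coord j))

theorem compactSpace_Src : CompactSpace (Src.{u} n) :=
  (quasiCompact_iff_compactSpace (pr₁ n ≫ ProjSpace.toSpec 1 R0.{u})).mp inferInstance

theorem isAmple_Bi : CohB1.IsAmple (Bi.{u} n) := by
  rw [isAmple_iff]
  refine ⟨isInvertible_Bi n, compactSpace_Src n, fun z => ?_⟩
  obtain ⟨i, hi⟩ := exists_mem_basicOpen_X (pr₁ n z)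
  obtain ⟨j, hj⟩ := exists_mem_basicOpen_X (pr₂ n z)
  refine ⟨1, spow (tm (xSec n i) (aSec n j)) 1, one_pos, ?_⟩
  rw [gen_spow (isInvertible_Bi n) _ 1 one_pos, gen_tm (isInvertible_O₁ n) (isInvertible_O₂ n), gen_xSec,
    gen_aSec]
  refine ⟨⟨hi, hj⟩, ?_⟩
  have h := Groth.Agent.H11Ample.isAffineOpen_fst_inf_snd (ProjSpace.toSpec 1 R0.{u}) (ProjSpace.toSpec n R0.{u})
    (isAffineOpen_top _) (isAffineOpen_D 1 i) le_top (isAffineOpen_D n j) le_top
  exact h

theorem exists_mem_gen_mulSec (z : Src.{u} n) : ∃ k, z ∈ gen (Bi.{u} n) (mulSec n k) := by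
  obtain ⟨V₁, e₁, hzV₁, he₁⟩ := exists_gen (isInvertible_O₁ n) z
  obtain ⟨V₂, e₂, hzV₂, he₂⟩ := exists_gen (isInvertible_O₂ n) z
  let V := V₁ ⊓ V₂
  have hzV : z ∈ V := ⟨hzV₁, hzV₂⟩
  have hg₁ := he₁.res (inf_le_left : V ≤ V₁)
  have hg₂ := he₂.res (inf_le_right : V ≤ V₂)
  choose α hα using fun i => exists_coeff hg₁ ((O₁.{u} n).presheaf.map (homOfLE (le_top : V ≤ ⊤)).op (xSec n i))
  choose γ hγ using fun j => exists_coeff hg₂ ((O₂.{u} n).presheaf.map (homOfLE (le_top : V ≤ ⊤)).op (aSec n j))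
  let A : Fin (n + 1 + 1) → Γ(Src.{u} n, V) := Fin.snoc (α := fun _ => Γ(Src.{u} n, V)) γ 0
  let B : Fin (n + 1 + 1) → Γ(Src.{u} n, V) := Fin.cons (α := fun _ => Γ(Src.{u} n, V)) 0 γ
  have hA : ∀ k, (O₂.{u} n).presheaf.map (homOfLE (le_top : V ≤ ⊤)).op
      (Fin.snoc (α := fun _ => Γ(O₂.{u} n, ⊤)) (aSec n) 0 k) =
        A k • (O₂.{u} n).presheaf.map (homOfLE (inf_le_right : V ≤ V₂)).op e₂ := fun k => by
    induction k using Fin.lastCases with
    | last => simp only [A, Fin.snoc_last, map_zero, zero_smul]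
    | cast k => simp only [A, Fin.snoc_castSucc, hγ]
  have hB : ∀ k, (O₂.{u} n).presheaf.map (homOfLE (le_top : V ≤ ⊤)).op
      (Fin.cons (α := fun _ => Γ(O₂.{u} n, ⊤)) 0 (aSec n) k) =
        B k • (O₂.{u} n).presheaf.map (homOfLE (inf_le_right : V ≤ V₂)).op e₂ := fun k => by
    induction k using Fin.cases with
    | zero => simp only [B, Fin.cons_zero, map_zero, zero_smul]
    | succ k => simp only [B, Fin.cons_succ, hγ]
  have hv : ∀ k, (Bi.{u} n).presheaf.map (homOfLE (le_top : V ≤ ⊤)).op (mulSec n k) =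
      (α 0 * A k + α 1 * B k) • tm ((O₁.{u} n).presheaf.map (homOfLE (inf_le_left : V ≤ V₁)).op e₁)
        ((O₂.{u} n).presheaf.map (homOfLE (inf_le_right : V ≤ V₂)).op e₂) := fun k => by
    rw [mulSec, map_add, tm_res, tm_res, hα, hα, hA, hB]
    simp only [tm_smul_left, tm_smul_right, smul_smul, add_smul, mul_comm]
  let φ := ((Src.{u} n).presheaf.germ V z hzV).hom
  by_contra hno
  push Not at hno
  have hm : ∀ k, φ (α 0 * A k + α 1 * B k) ∈ IsLocalRing.maximalIdeal _ := fun k hu =>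
    hno k ((gen_inf_eq_basicOpen (isGen_tm hg₁ hg₂) _ _ (hv k)).ge
      (((Src.{u} n).mem_basicOpen _ z hzV).2 hu)).1
  have hx : ∀ i, z ∈ gen (O₁.{u} n) (xSec n i) → IsUnit (φ (α i)) := fun i hi =>
    ((Src.{u} n).mem_basicOpen _ z hzV).1 ((gen_inf_eq_basicOpen hg₁ _ _ (hα i)).le ⟨hi, hzV⟩)
  obtain ⟨j₀, hj₀⟩ := exists_mem_basicOpen_X (pr₂ n z)
  have hγ₀ : IsUnit (φ (γ j₀)) := ((Src.{u} n).mem_basicOpen _ z hzV).1
    ((gen_inf_eq_basicOpen hg₂ _ _ (hγ j₀)).le ⟨(gen_aSec n j₀).ge hj₀, hzV⟩)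
  have key : ∀ {u x : (Src.{u} n).presheaf.stalk z}, IsUnit u → u * x ∈ IsLocalRing.maximalIdeal _ →
      x ∈ IsLocalRing.maximalIdeal _ := fun hu h =>
    ((IsLocalRing.maximalIdeal.isMaximal _).isPrime.mem_or_mem h).resolve_left fun h' => h' hu
  suffices h : ∀ j, φ (γ j) ∈ IsLocalRing.maximalIdeal _ from h j₀ hγ₀
  by_cases h0 : IsUnit (φ (α 0))
  · intro j
    induction j using Fin.induction with
    | zero =>
      refine key h0 ?_
      have h := hm ((0 : Fin (n + 1)).castSucc)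
      simp only [A, B, Fin.snoc_castSucc] at h
      rw [Fin.castSucc_zero, Fin.cons_zero, mul_zero, add_zero, map_mul] at h
      exact h
    | succ j ih =>
      refine key h0 ?_
      have h := hm j.succ.castSucc
      simp only [A, B, Fin.snoc_castSucc] at h
      rw [← Fin.succ_castSucc, Fin.cons_succ, map_add, map_mul, map_mul] at h
      exact (Ideal.add_mem_iff_left _ (Ideal.mul_mem_left _ _ ih)).mp h
  · intro j
    have h1 : IsUnit (φ (α 1)) := by
      obtain ⟨i, hi⟩ := exists_mem_basicOpen_X (pr₁ n z)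
      fin_cases i
      · exact absurd (hx 0 ((gen_xSec n 0).ge hi)) h0
      · exact hx 1 ((gen_xSec n 1).ge hi)
    refine key h1 ?_
    have h := hm j.succ
    simp only [B, Fin.cons_succ, map_add, map_mul] at h
    exact (Ideal.add_mem_iff_right _ (Ideal.mul_mem_right _ _ h0)).mp h

/-- A point of a chart of projective space with given coordinates. -/
theorem exists_point (n : ℕ) (i : Fin (n + 1)) (K : Type u) [Field K] (θ : Fin (n + 1) → K) (hθ : θ i = 1) :
    ∃ q : Spec (CommRingCat.of K) ⟶ ProjSpace n R0.{u}, ∃ h : (⊤ : (Spec (CommRingCat.of K)).Opens) ≤ q ⁻¹ᵁ D n i,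
      ∀ l, q.appLE (D n i) ⊤ h (rat.{u} n i l) =
        (Scheme.ΓSpecIso (CommRingCat.of K)).inv (θ l) := by
  obtain ⟨e, he⟩ := exists_chartEquiv n i
  let ψ : Γ(ProjSpace n R0.{u}, D n i) →+* K :=
    (MvPolynomial.eval₂Hom ((Int.castRingHom K).comp ULift.ringEquiv.toRingHom) (fun j => θ j.1)).comp e.toRingHom
  have hψ : ∀ l, ψ (rat.{u} n i l) = θ l := fun l => by
    show MvPolynomial.eval₂Hom _ _ (e _) = _
    rw [he, Groth.Agent.H11Proj.ProjSpace.dehom, MvPolynomial.eval₂Hom_X']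
    by_cases hl : l = i
    · rw [dif_pos hl, map_one, hl, hθ]
    · rw [dif_neg hl, MvPolynomial.eval₂Hom_X']
  let hD := isAffineOpen_D.{u} n i
  let g := Spec.map (CommRingCat.ofHom ψ)
  have hle : (⊤ : (Spec (CommRingCat.of K)).Opens) ≤ (g ≫ hD.fromSpec) ⁻¹ᵁ D n i := by
    rw [Scheme.Hom.comp_preimage, hD.fromSpec_preimage_self]
    exact le_rfl
  refine ⟨g ≫ hD.fromSpec, hle, fun l => ?_⟩
  have e1 : (g ≫ hD.fromSpec).appLE (D n i) ⊤ hle =
      CommRingCat.ofHom ψ ≫ (Scheme.ΓSpecIso (CommRingCat.of K)).inv := by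
    rw [Scheme.ΓSpecIso_inv_naturality,
      ← Scheme.Hom.appLE_comp_appLE g hD.fromSpec (D n i) ⊤ ⊤ hD.fromSpec_preimage_self.ge le_top]
    have h1 : hD.fromSpec.appLE (D n i) ⊤ hD.fromSpec_preimage_self.ge =
        (Scheme.ΓSpecIso Γ(ProjSpace n R0.{u}, D n i)).inv := by
      rw [Scheme.Hom.appLE, hD.fromSpec_app_self, Category.assoc, ← Functor.map_comp]
      exact (congrArg (_ ≫ ·) ((congrArg _ (Subsingleton.elim _ (𝟙 _))).trans
        ((Spec _).presheaf.map_id _))).trans (Category.comp_id _)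
    rw [h1]
    exact congrArg ((Scheme.ΓSpecIso _).inv ≫ ·) g.app_eq_appLE.symm
  rw [e1, ConcreteCategory.comp_apply]
  exact congrArg (Scheme.ΓSpecIso (CommRingCat.of K)).inv (hψ l)

theorem coord_eq_ratio_smul (n : ℕ) (i l : Fin (n + 1)) :
    (Twist.twistProjSpace n R0.{u} 1).presheaf.map (homOfLE (le_top : D n i ≤ ⊤)).op (ProjUP.coord n R0.{u} l) =
      rat.{u} n i l •
        (Twist.twistProjSpace n R0.{u} 1).presheaf.map (homOfLE (le_top : D n i ≤ ⊤)).op (ProjUP.coord n R0.{u} i) :=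
  globalSec_eq_ratio_smul (polyGrading n R0.{u}) (X_mem i) (X_mem l)

theorem pullTop_coord_eq {X : Scheme.{u}} {n : ℕ} (f : X ⟶ ProjSpace n R0.{u}) {U : X.Opens} (i l : Fin (n + 1))
    (h : U ≤ f ⁻¹ᵁ D n i) :
    ((Scheme.Modules.pullback f).obj (Twist.twistProjSpace n R0.{u} 1)).presheaf.map (homOfLE (le_top : U ≤ ⊤)).op
        (pullTop f (ProjUP.coord n R0.{u} l)) =
      f.appLE (D n i) U h (rat.{u} n i l) •
        ((Scheme.Modules.pullback f).obj (Twist.twistProjSpace n R0.{u} 1)).presheaf.map (homOfLE (le_top : U ≤ ⊤)).op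
          (pullTop f (ProjUP.coord n R0.{u} i)) := by
  have e : ∀ k, ((Scheme.Modules.pullback f).obj (Twist.twistProjSpace n R0.{u} 1)).presheaf.map
      (homOfLE (le_top : U ≤ ⊤)).op (pullTop f (ProjUP.coord n R0.{u} k)) =
      ((Scheme.Modules.pullback f).obj (Twist.twistProjSpace n R0.{u} 1)).presheaf.map (homOfLE h).op
        (OmegaSh.pullSect f _ (D n i) ((Twist.twistProjSpace n R0.{u} 1).presheaf.map
          (homOfLE (le_top : D n i ≤ ⊤)).op (ProjUP.coord n R0.{u} k))) := fun k => by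
    rw [← pullTop_res f (ProjUP.coord n R0.{u} k) (D n i), H10Coh.mres_mres]
  rw [e l, e i, coord_eq_ratio_smul, OmegaSh.pullSect_smul, Scheme.Modules.map_smul]
  rfl

/-- The multiplication map. -/
theorem exists_mult :
    ∃ m : Src.{u} n ⟶ ProjSpace (n + 1) R0.{u}, IsFinite m ∧ Surjective m := by
  classical
  let π := pr₁.{u} n ≫ ProjSpace.toSpec 1 R0.{u}
  obtain ⟨m, hm, -, hgen, hratio⟩ := exists_toPn_ratio π (isInvertible_Bi n) (mulSec n) (exists_mem_gen_mulSec n)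
  haveI : IsProper π := (inferInstance : IsProper (pullback.fst _ _ ≫ ProjSpace.toSpec 1 R0.{u}))
  haveI : IsProper m := by
    haveI : IsProper (m ≫ ProjSpace.toSpec (n + 1) R0.{u}) := by rw [hm]; infer_instance
    exact IsProper.of_comp m (ProjSpace.toSpec (n + 1) R0.{u})
  haveI : IsAffineHom m := isAffineHom_of_forall_exists_isAffineOpen m fun y => by
    obtain ⟨i, hi⟩ := exists_mem_basicOpen_X y
    refine ⟨_, hi, isAffineOpen_D (n + 1) i, ?_⟩
    rw [hgen i]
    exact Groth.Agent.H17.GenAffine.isAffineOpen_gen π (isAmple_Bi n) (mulSec n i)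
  refine ⟨m, IsFinite.iff_isProper_and_isAffineHom.mpr ⟨inferInstance, inferInstance⟩, ?_⟩
  -- a point over the generic point
  let T := MvPolynomial (Fin (n + 1)) R0.{u}
  let K := AlgebraicClosure (FractionRing T)
  let inc : T →+* K := (algebraMap (FractionRing T) K).comp (algebraMap T (FractionRing T))
  have hinc : Function.Injective inc :=
    (algebraMap (FractionRing T) K).injective.comp (IsFractionRing.injective T (FractionRing T))
  let τ : ℕ → K := fun l => if h : l < n + 1 then inc (MvPolynomial.X ⟨l, h⟩) else 0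
  let P : ℕ → Polynomial K := fun l => Nat.rec 1 (fun l Q => Polynomial.C (τ l) - Polynomial.X * Q) l
  have hdeg : ∀ l, (P l).natDegree = l ∧ P l ≠ 0 := fun l => by
    induction l with
    | zero => exact ⟨Polynomial.natDegree_one, one_ne_zero⟩
    | succ l ih =>
      have h : (Polynomial.X * P l).natDegree = l + 1 := by rw [Polynomial.natDegree_X_mul ih.2, ih.1]
      have hd : (P (l + 1)).natDegree = l + 1 := by
        show (Polynomial.C (τ l) - Polynomial.X * P l).natDegree = l + 1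
        rw [sub_eq_neg_add, Polynomial.natDegree_add_C, Polynomial.natDegree_neg, h]
      exact ⟨hd, fun h0 => by rw [h0, Polynomial.natDegree_zero] at hd; omega⟩
  obtain ⟨s, hs⟩ := IsAlgClosed.exists_root (P (n + 1)) (fun h => by
    rw [Polynomial.degree_eq_natDegree (hdeg (n + 1)).2, (hdeg (n + 1)).1] at h
    exact Nat.succ_ne_zero n (WithBot.coe_eq_coe.mp h))
  let b : ℕ → K := fun l => (P l).eval s
  have hb : ∀ l, b (l + 1) + s * b l = τ l := fun l => by
    show Polynomial.eval s (Polynomial.C (τ l) - Polynomial.X * P l) + _ = _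
    rw [Polynomial.eval_sub, Polynomial.eval_C, Polynomial.eval_mul, Polynomial.eval_X, sub_add_cancel]
  obtain ⟨q₁, hq₁, hq₁v⟩ := exists_point 1 0 K ![1, s] rfl
  obtain ⟨q₂, hq₂, hq₂v⟩ := exists_point n 0 K (fun l => b l.val) Polynomial.eval_one
  let q : Spec (CommRingCat.of K) ⟶ Src.{u} n := pullback.lift q₁ q₂ (specULiftZIsTerminal.hom_ext _ _)
  let U₀ : (Src.{u} n).Opens := pr₁ n ⁻¹ᵁ D 1 0 ⊓ pr₂ n ⁻¹ᵁ D n 0
  have hU₁ : U₀ ≤ pr₁ n ⁻¹ᵁ D 1 0 := inf_le_left
  have hU₂ : U₀ ≤ pr₂ n ⁻¹ᵁ D n 0 := inf_le_right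
  have hqU : (⊤ : (Spec (CommRingCat.of K)).Opens) ≤ q ⁻¹ᵁ U₀ := by
    rw [Scheme.Hom.preimage_inf, ← Scheme.Hom.comp_preimage, ← Scheme.Hom.comp_preimage, pullback.lift_fst,
      pullback.lift_snd]
    exact le_inf hq₁ hq₂
  let S : Γ(Src.{u} n, U₀) :=
    (pr₁ n).appLE (D 1 0) U₀ hU₁ (rat.{u} 1 0 1)
  let G : Fin (n + 1) → Γ(Src.{u} n, U₀) := fun j =>
    (pr₂ n).appLE (D n 0) U₀ hU₂ (rat.{u} n 0 j)
  let Q : Γ(Src.{u} n, U₀) →+* K :=
    (Scheme.ΓSpecIso (CommRingCat.of K)).hom.hom.comp (q.appLE U₀ ⊤ hqU).hom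
  have hQS : Q S = s := by
    show (Scheme.ΓSpecIso (CommRingCat.of K)).hom (q.appLE U₀ ⊤ hqU ((pr₁ n).appLE _ U₀ hU₁ _)) = s
    have h := ConcreteCategory.congr_hom (Scheme.Hom.appLE_comp_appLE q (pr₁ n) (D 1 0) U₀ ⊤ hU₁ hqU)
      (rat.{u} 1 0 1)
    rw [ConcreteCategory.comp_apply] at h
    rw [h]
    simp only [q, pr₁, pullback.lift_fst]
    rw [hq₁v]
    exact ConcreteCategory.congr_hom (Scheme.ΓSpecIso (CommRingCat.of K)).inv_hom_id s
  have hQG : ∀ j, Q (G j) = b j.val := fun j => by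
    show (Scheme.ΓSpecIso (CommRingCat.of K)).hom (q.appLE U₀ ⊤ hqU ((pr₂ n).appLE _ U₀ hU₂ _)) = _
    have h := ConcreteCategory.congr_hom (Scheme.Hom.appLE_comp_appLE q (pr₂ n) (D n 0) U₀ ⊤ hU₂ hqU)
      (rat.{u} n 0 j)
    rw [ConcreteCategory.comp_apply] at h
    rw [h]
    simp only [q, pr₂, pullback.lift_snd]
    rw [hq₂v]
    exact ConcreteCategory.congr_hom (Scheme.ΓSpecIso (CommRingCat.of K)).inv_hom_id _
  let e : Γ(Bi.{u} n, U₀) := tm ((O₁.{u} n).presheaf.map (homOfLE (le_top : U₀ ≤ ⊤)).op (xSec n 0))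
    ((O₂.{u} n).presheaf.map (homOfLE (le_top : U₀ ≤ ⊤)).op (aSec n 0))
  have he : IsGen (Bi.{u} n) e := by
    have h₁ := (isGen_gen (xSec.{u} n 0)).res (hU₁.trans (gen_xSec n 0).ge)
    have h₂ := (isGen_gen (aSec.{u} n 0)).res (hU₂.trans (gen_aSec n 0).ge)
    rw [H10Coh.mres_mres] at h₁ h₂
    exact isGen_tm h₁ h₂
  let A' : Fin (n + 1 + 1) → Γ(Src.{u} n, U₀) := Fin.snoc (α := fun _ => Γ(Src.{u} n, U₀)) G 0
  let B' : Fin (n + 1 + 1) → Γ(Src.{u} n, U₀) := Fin.cons (α := fun _ => Γ(Src.{u} n, U₀)) 0 G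
  have hv : ∀ k, (Bi.{u} n).presheaf.map (homOfLE (le_top : U₀ ≤ ⊤)).op (mulSec n k) = (A' k + S * B' k) • e := by
    intro k
    rw [mulSec, map_add, tm_res, tm_res, pullTop_coord_eq (pr₁ n) 0 1 hU₁, tm_smul_left, add_smul, mul_smul]
    congr 1
    · induction k using Fin.lastCases with
      | last =>
        simp only [A', Fin.snoc_last, map_zero, zero_smul]
        rw [← zero_smul Γ(Src.{u} n, U₀) (0 : Γ(O₂.{u} n, U₀)), tm_smul_right, zero_smul]
      | cast k =>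
        simp only [A', Fin.snoc_castSucc, e]
        rw [← tm_smul_right, pullTop_coord_eq (pr₂ n) 0 k hU₂]
    · refine congrArg (fun y => S • y) ?_
      induction k using Fin.cases with
      | zero =>
        simp only [B', Fin.cons_zero, map_zero, zero_smul]
        rw [← zero_smul Γ(Src.{u} n, U₀) (0 : Γ(O₂.{u} n, U₀)), tm_smul_right, zero_smul]
      | succ k =>
        simp only [B', Fin.cons_succ, e]
        rw [← tm_smul_right, pullTop_coord_eq (pr₂ n) 0 k hU₂]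
  have h00 : A' 0 + S * B' 0 = 1 := by
    show Fin.snoc (α := fun _ => Γ(Src.{u} n, U₀)) G 0 0 + S * Fin.cons (α := fun _ => Γ(Src.{u} n, U₀)) 0 G 0 = 1
    rw [Fin.cons_zero, mul_zero, add_zero, ← Fin.castSucc_zero, Fin.snoc_castSucc]
    simp only [G]
    exact (congrArg _ (ratio_self (polyGrading n R0.{u}) (X_mem 0))).trans (map_one _)
  have hUm : U₀ ≤ m ⁻¹ᵁ D (n + 1) 0 := by
    rw [hgen 0]
    refine fun y hy => mem_gen_of_isGen (W := U₀) ?_ hy
    rw [hv 0, h00, one_smul]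
    exact he
  have hρ : ∀ l, m.appLE (D (n + 1) 0) U₀ hUm (rat.{u} (n + 1) 0 l) =
      A' l + S * B' l := fun l => by
    have h := congrArg ((Bi.{u} n).presheaf.map (homOfLE hUm).op) (hratio 0 l)
    rw [H10Coh.mres_mres, Scheme.Modules.map_smul, H10Coh.mres_mres] at h
    rw [hv l, hv 0, h00, one_smul] at h
    refine (he.bijective le_rfl).1 ?_
    beta_reduce
    rw [H10Coh.mres_self]
    exact h.symm
  -- injectivity
  let Φ : Γ(ProjSpace (n + 1) R0.{u}, D (n + 1) 0) →+* K := Q.comp (m.appLE (D (n + 1) 0) U₀ hUm).hom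
  obtain ⟨ε, hε⟩ := exists_chartEquiv.{u} (n + 1) 0
  let rn : {j : Fin (n + 1 + 1) // j ≠ 0} → Fin (n + 1) := fun j => j.1.pred j.2
  have hrn : Function.Injective rn := fun a c h => Subtype.ext (Fin.pred_inj.mp h)
  let Ψ : Γ(ProjSpace (n + 1) R0.{u}, D (n + 1) 0) →+* K :=
    inc.comp ((MvPolynomial.rename rn).toRingHom.comp ε.toRingHom)
  have hΦ : Φ = Ψ := by
    refine RingHom.eq_of_eqOn_set_dense
      (Groth.Agent.LeadChow.Segre.closure_ratio_eq_top.{u} (n + 1) 0) ?_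
    rintro _ ⟨l, rfl⟩
    show Q (m.appLE _ U₀ hUm _) = inc (MvPolynomial.rename rn (ε _))
    rw [hρ, hε, Groth.Agent.H11Proj.ProjSpace.dehom, MvPolynomial.eval₂Hom_X']
    induction l using Fin.cases with
    | zero => rw [h00, dif_pos rfl, map_one, map_one, map_one]
    | succ l =>
      rw [dif_neg (Fin.succ_ne_zero l), MvPolynomial.rename_X, map_add, map_mul, hQS]
      have hA : Q (A' l.succ) = b (l.val + 1) := by
        rcases Fin.eq_castSucc_or_eq_last l.succ with ⟨j, hj⟩ | hj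
        · have hval : j.val = l.val + 1 := by
            have := congrArg Fin.val hj
            simpa using this.symm
          rw [hj]
          simp only [A', Fin.snoc_castSucc, hQG, hval]
        · have hval : l.val + 1 = n + 1 := by
            have := congrArg Fin.val hj
            simpa using this
          rw [hj]
          simp only [A', Fin.snoc_last, map_zero, hval]
          exact hs.eq_zero.symm
      rw [hA, show Q (B' l.succ) = b l.val from (congrArg Q (Fin.cons_succ _ _ l)).trans (hQG l), hb]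
      simp only [τ, rn, Fin.pred_succ, dif_pos l.isLt]
  have hΦinj : Function.Injective Φ := by
    rw [hΦ]
    exact hinc.comp ((MvPolynomial.rename_injective rn hrn).comp ε.injective)
  let pt : Spec (CommRingCat.of K) := default
  have hz : closure ({m (q pt)} : Set (ProjSpace (n + 1) R0.{u})) = Set.univ := closure_eq_univ (n + 1) fun ρ hρ0 => by
    have hu : IsUnit (q.appLE U₀ ⊤ hqU (m.appLE (D (n + 1) 0) U₀ hUm ρ)) := by
      have h : IsUnit (Φ ρ) := isUnit_iff_ne_zero.mpr fun h => hρ0 (hΦinj (h.trans (map_zero Φ).symm))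
      have h' := h.map (Scheme.ΓSpecIso (CommRingCat.of K)).inv.hom
      simp only [Φ, Q, RingHom.comp_apply] at h'
      rwa [← ConcreteCategory.comp_apply (Scheme.ΓSpecIso (CommRingCat.of K)).hom, Iso.hom_inv_id,
        ConcreteCategory.id_apply] at h'
    have hb := (Spec (CommRingCat.of K)).basicOpen_of_isUnit hu
    rw [Scheme.basicOpen_appLE, top_inf_eq] at hb
    have := hb.ge (show pt ∈ (⊤ : (Spec (CommRingCat.of K)).Opens) from trivial)
    have h2 : q pt ∈ (Src.{u} n).basicOpen (m.appLE (D (n + 1) 0) U₀ hUm ρ) := this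
    rw [Scheme.basicOpen_appLE] at h2
    exact h2.2
  refine ⟨Set.range_eq_univ.mp ?_⟩
  rw [← (m.isClosedMap.isClosed_range).closure_eq, Set.eq_univ_iff_forall]
  intro y
  have hsub : ({m (q pt)} : Set (ProjSpace (n + 1) R0.{u})) ⊆ Set.range m :=
    Set.singleton_subset_iff.mpr (Set.mem_range_self (q pt))
  exact closure_mono hsub (hz.ge (Set.mem_univ y))

end Groth.Agent.H11P1n
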