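import Groth.Agent.H11P1n.Mult
import Groth.Agent.LeadChow.Prod
import Mathlib.CategoryTheory.Limits.Shapes.WidePullbacks

/-!
# A finite surjective morphism from `(P^1)^n` onto `P^n`
-/

set_option autoImplicit false
set_option linter.style.haveILetI false

noncomputable section

universe u

open CategoryTheory CategoryTheory.Limits AlgebraicGeometry TopologicalSpace CohB1

namespace Groth.Agent.H11P1n

variable (S : Scheme.{u})

/-- The multiplication map over any base. -/
theorem exists_mult_over (n : ℕ) :
    ∃ m : pullback (ProjSpaceOver.toBase 1 S) (ProjSpaceOver.toBase n S) ⟶ ProjSpaceOver (n + 1) S,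
      IsFinite m ∧ Surjective m ∧ m ≫ ProjSpaceOver.toBase (n + 1) S =
        pullback.fst (ProjSpaceOver.toBase 1 S) (ProjSpaceOver.toBase n S) ≫ ProjSpaceOver.toBase 1 S := by
  obtain ⟨m₀, hfin, hsurj⟩ := exists_mult.{u} n
  let b₁ := ProjSpaceOver.toBase 1 S
  let bn := ProjSpaceOver.toBase n S
  let p₁ : ProjSpaceOver 1 S ⟶ ProjSpace 1 R0.{u} := pullback.fst _ _
  let pn : ProjSpaceOver n S ⟶ ProjSpace n R0.{u} := pullback.fst _ _
  let pN : ProjSpaceOver (n + 1) S ⟶ ProjSpace (n + 1) R0.{u} := pullback.fst _ _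
  let ξ : pullback b₁ bn ⟶ Src.{u} n :=
    pullback.lift (pullback.fst b₁ bn ≫ p₁) (pullback.snd b₁ bn ≫ pn) (specULiftZIsTerminal.hom_ext _ _)
  let m : pullback b₁ bn ⟶ ProjSpaceOver (n + 1) S :=
    pullback.lift (ξ ≫ m₀) (pullback.fst b₁ bn ≫ b₁) (specULiftZIsTerminal.hom_ext _ _)
  have hm₁ : m ≫ pN = ξ ≫ m₀ := pullback.lift_fst _ _ _
  have hm₂ : m ≫ ProjSpaceOver.toBase (n + 1) S = pullback.fst b₁ bn ≫ b₁ := pullback.lift_snd _ _ _
  have sq : IsPullback m ξ pN m₀ := by
    let lift : ∀ s : PullbackCone pN m₀, s.pt ⟶ pullback b₁ bn := fun s =>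
      pullback.lift
        (pullback.lift (s.snd ≫ pullback.fst _ _) (s.fst ≫ ProjSpaceOver.toBase (n + 1) S)
          (specULiftZIsTerminal.hom_ext _ _))
        (pullback.lift (s.snd ≫ pullback.snd _ _) (s.fst ≫ ProjSpaceOver.toBase (n + 1) S)
          (specULiftZIsTerminal.hom_ext _ _))
        ((pullback.lift_snd _ _ _).trans (pullback.lift_snd _ _ _).symm)
    have hlξ : ∀ s, lift s ≫ ξ = s.snd := fun s => by
      apply pullback.hom_ext
      · simp only [lift, ξ, p₁, b₁, bn, Category.assoc, pullback.lift_fst, pullback.lift_fst_assoc]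
        exact pullback.lift_fst _ _ _
      · simp only [lift, ξ, pn, b₁, bn, Category.assoc, pullback.lift_snd, pullback.lift_snd_assoc]
        exact pullback.lift_fst _ _ _
    refine ⟨⟨hm₁⟩, ⟨PullbackCone.IsLimit.mk _ lift (fun s => ?_) hlξ fun s t ht₁ ht₂ => ?_⟩⟩
    · apply pullback.hom_ext
      · show (lift s ≫ m) ≫ pN = _
        rw [Category.assoc, hm₁, ← Category.assoc, hlξ]
        exact s.condition.symm
      · show (lift s ≫ m) ≫ ProjSpaceOver.toBase (n + 1) S = s.fst ≫ ProjSpaceOver.toBase (n + 1) S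
        rw [Category.assoc, hm₂]
        simp only [lift, b₁, bn, pullback.lift_fst_assoc]
        exact pullback.lift_snd _ _ _
    · have hb : t ≫ pullback.fst b₁ bn ≫ b₁ = s.fst ≫ ProjSpaceOver.toBase (n + 1) S := by
        rw [← hm₂, reassoc_of% ht₁]
      apply pullback.hom_ext <;> apply pullback.hom_ext
      · refine Eq.trans ?_ ((congrArg (· ≫ p₁) (pullback.lift_fst _ _ _)).trans (pullback.lift_fst _ _ _)).symm
        show (t ≫ pullback.fst b₁ bn) ≫ p₁ = _
        rw [← ht₂, Category.assoc, Category.assoc]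
        exact congrArg (t ≫ ·) (pullback.lift_fst _ _ _).symm
      · refine Eq.trans ?_ ((congrArg (· ≫ b₁) (pullback.lift_fst _ _ _)).trans (pullback.lift_snd _ _ _)).symm
        show (t ≫ pullback.fst b₁ bn) ≫ b₁ = _
        rw [Category.assoc]
        exact hb
      · refine Eq.trans ?_ ((congrArg (· ≫ pn) (pullback.lift_snd _ _ _)).trans (pullback.lift_fst _ _ _)).symm
        show (t ≫ pullback.snd b₁ bn) ≫ pn = _
        rw [← ht₂, Category.assoc, Category.assoc]
        exact congrArg (t ≫ ·) (pullback.lift_snd _ _ _).symm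
      · refine Eq.trans ?_ ((congrArg (· ≫ bn) (pullback.lift_snd _ _ _)).trans (pullback.lift_snd _ _ _)).symm
        show (t ≫ pullback.snd b₁ bn) ≫ bn = _
        rw [Category.assoc, ← pullback.condition]
        exact hb
  exact ⟨m, MorphismProperty.of_isPullback sq.flip hfin, MorphismProperty.of_isPullback sq.flip hsurj, hm₂⟩

/-- `(P^1)^n ⟶ P^n`, finite surjective. -/
theorem exists_finite_surjective (n : ℕ) :
    ∃ φ : widePullback S (fun _ : Fin n => ProjSpaceOver 1 S) (fun _ => ProjSpaceOver.toBase 1 S) ⟶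
        ProjSpaceOver n S,
      IsFinite φ ∧ Surjective φ ∧
        φ ≫ ProjSpaceOver.toBase n S = WidePullback.base (fun _ => ProjSpaceOver.toBase 1 S) := by
  induction n with
  | zero =>
    haveI := Groth.Agent.LeadChow.isIso_toBase_zero S
    let W := widePullback S (fun _ : Fin 0 => ProjSpaceOver 1 S) (fun _ => ProjSpaceOver.toBase 1 S)
    let b : W ⟶ S := WidePullback.base _
    haveI : IsIso b := by
      refine ⟨WidePullback.lift (𝟙 S) (fun j => j.elim0) (fun j => j.elim0), ?_, WidePullback.lift_base _ _ _ _⟩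
      refine WidePullback.hom_ext _ _ _ (fun j => j.elim0) ?_
      rw [Category.assoc, WidePullback.lift_base, Category.comp_id, Category.id_comp]
    refine ⟨b ≫ inv (ProjSpaceOver.toBase 0 S), inferInstance, inferInstance, ?_⟩
    rw [Category.assoc, IsIso.inv_hom_id, Category.comp_id]
  | succ n ih =>
    obtain ⟨φ, hφ₁, hφ₂, hφ⟩ := ih
    obtain ⟨m, hm₁, hm₂, hm⟩ := exists_mult_over S n
    let b₁ := ProjSpaceOver.toBase 1 S
    let W := widePullback S (fun _ : Fin n => ProjSpaceOver 1 S) (fun _ => b₁)
    let W' := widePullback S (fun _ : Fin (n + 1) => ProjSpaceOver 1 S) (fun _ => b₁)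
    let π' : ∀ j, W' ⟶ ProjSpaceOver 1 S := fun j => WidePullback.π _ j
    let base' : W' ⟶ S := WidePullback.base _
    have hπ' : ∀ j, π' j ≫ b₁ = base' := fun j => WidePullback.π_arrow _ j
    let tail : W' ⟶ W := WidePullback.lift base' (fun j => π' j.succ) fun j => hπ' j.succ
    have hsq : π' 0 ≫ b₁ = tail ≫ WidePullback.base _ :=
      (hπ' 0).trans (WidePullback.lift_base _ _ _ _).symm
    let b₂ : W ⟶ S := WidePullback.base _
    let σ : pullback b₁ b₂ ⟶ W' := WidePullback.lift (pullback.fst b₁ b₂ ≫ b₁)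
      (Fin.cases (motive := fun _ => pullback b₁ b₂ ⟶ ProjSpaceOver 1 S) (pullback.fst b₁ b₂)
        (fun j => pullback.snd b₁ b₂ ≫ WidePullback.π _ j))
      (fun j => by
        induction j using Fin.cases with
        | zero => rfl
        | succ j =>
          show (pullback.snd b₁ b₂ ≫ WidePullback.π _ j) ≫ b₁ = _
          rw [Category.assoc, WidePullback.π_arrow]
          exact pullback.condition.symm)
    have hσ : σ ≫ pullback.lift (π' 0) tail hsq = 𝟙 _ := by
      apply pullback.hom_ext
      · rw [Category.assoc, pullback.lift_fst, Category.id_comp]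
        exact WidePullback.lift_π _ _ _ _ 0
      · rw [Category.assoc, pullback.lift_snd, Category.id_comp]
        refine WidePullback.hom_ext _ _ _ (fun j => ?_) ?_
        · rw [Category.assoc, WidePullback.lift_π]
          exact WidePullback.lift_π _ _ _ _ j.succ
        · rw [Category.assoc, WidePullback.lift_base]
          exact (WidePullback.lift_base _ _ _ _).trans pullback.condition
    haveI : IsIso (pullback.lift (π' 0) tail hsq) := by
      refine ⟨σ, ?_, hσ⟩
      refine WidePullback.hom_ext _ _ _ (fun j => ?_) ?_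
      · rw [Category.assoc, Category.id_comp, WidePullback.lift_π]
        induction j using Fin.cases with
        | zero => exact pullback.lift_fst _ _ _
        | succ j =>
          show pullback.lift _ _ _ ≫ pullback.snd b₁ b₂ ≫ WidePullback.π _ j = _
          rw [pullback.lift_snd_assoc]
          exact WidePullback.lift_π _ _ _ _ j
      · rw [Category.assoc, Category.id_comp, WidePullback.lift_base, pullback.lift_fst_assoc]
        exact hπ' 0
    have hμ : φ ≫ ProjSpaceOver.toBase n S = b₂ := hφ
    let μ : pullback b₁ b₂ ⟶ pullback b₁ (ProjSpaceOver.toBase n S) :=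
      pullback.map b₁ b₂ b₁ (ProjSpaceOver.toBase n S) (𝟙 _) φ (𝟙 _) (by simp) (by simp [hμ])
    have hμfin : IsFinite μ :=
      MorphismProperty.pullbackMap (P := (@IsFinite : MorphismProperty Scheme.{u})) inferInstance hφ₁
        (Category.id_comp b₁).symm hμ.symm
    have hμsurj : Surjective μ :=
      MorphismProperty.pullbackMap (P := (@Surjective : MorphismProperty Scheme.{u})) inferInstance hφ₂
        (Category.id_comp b₁).symm hμ.symm
    refine ⟨pullback.lift (π' 0) tail hsq ≫ μ ≫ m, inferInstance, inferInstance, ?_⟩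
    rw [Category.assoc, Category.assoc, hm, pullback.lift_fst_assoc, Category.comp_id, pullback.lift_fst_assoc]
    exact hπ' 0

end Groth.Agent.H11P1n
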